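import Mathlib
import Cfsg.Agent.Ree.Trace
import Cfsg.Agent.Ree.Gen
import Cfsg.Agent.UL.Gow
import Cfsg.Agent.UL.RankOne
import Cfsg.Agent.UL.Rad
import Cfsg.Agent.S2343

/-!
# Squares of regular semisimple classes of the small Ree groups
-/

set_option autoImplicit false
set_option linter.unusedSectionVars false

namespace Cfsg.Agent.Ree

open MulAction

theorem four_mul_card_le {K : Type*} [Field K] [Fintype K] [DecidableEq K] (h2 : ringChar K ≠ 2) :
    4 * (Finset.univ.filter fun x : K => ¬ IsSquare x ∧ ¬ IsSquare (1 - x)).card ≤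
      Fintype.card K + 1 := by
  set χ := quadraticChar K with hχ
  have h1 : ∑ x, χ x = 0 := quadraticChar_sum_zero h2
  have h3 : ∑ x, χ (1 - x) = 0 := (Equiv.sum_comp (Equiv.subLeft 1) χ).trans h1
  have h4 := jacobiSum_nontrivial_inv (quadraticChar_ne_one h2)
  rw [(quadraticChar_isQuadratic K).inv, jacobiSum, ← hχ] at h4
  have h5 : ∀ x, χ x ≤ 1 ∧ -1 ≤ χ x := fun x => by
    rcases quadraticChar_isQuadratic K x with h | h | h <;> simp [hχ, h]
  have h6 : ∑ x, (1 - χ x) * (1 - χ (1 - x)) = Fintype.card K - χ (-1) := by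
    simp only [sub_mul, mul_sub, one_mul, mul_one, Finset.sum_sub_distrib, h1, h3, h4]
    simp
  have h7 : ∑ x ∈ Finset.univ.filter fun x : K => ¬ IsSquare x ∧ ¬ IsSquare (1 - x), (4 : ℤ) ≤
      ∑ x, (1 - χ x) * (1 - χ (1 - x)) := by
    rw [Finset.sum_filter]
    refine Finset.sum_le_sum fun x _ => ?_
    split_ifs with h
    · rw [quadraticChar_neg_one_iff_not_isSquare.2 h.1,
        quadraticChar_neg_one_iff_not_isSquare.2 h.2]
      norm_num
    · exact mul_nonneg (by linarith [(h5 x).1]) (by linarith [(h5 (1 - x)).1])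
  rw [h6, Finset.sum_const, nsmul_eq_mul] at h7
  have := (h5 (-1)).2
  zify
  linarith

theorem ncard_classes_mul {G : Type*} [Group G] [Finite G] {X : Set G} {k : ℕ}
    (hX : ∀ g ∈ X, ∀ c, c * g * c⁻¹ ∈ X)
    (hk : ∀ g ∈ X, Nat.card (Subgroup.centralizer ({g} : Set G)) = k) :
    (ConjClasses.mk '' X).ncard * Nat.card G = k * X.ncard := by
  classical
  have := Fintype.ofFinite G
  have h1 := Finset.card_eq_sum_card_image ConjClasses.mk X.toFinset
  rw [Set.ncard_eq_toFinset_card' X, h1, Finset.mul_sum, Set.ncard_eq_toFinset_card',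
    Set.toFinset_image, Finset.card_eq_sum_ones, Finset.sum_mul]
  refine Finset.sum_congr rfl fun c hc => ?_
  obtain ⟨a, ha, rfl⟩ := Finset.mem_image.1 hc
  rw [Set.mem_toFinset] at ha
  have h2 := card_eq_ncard_mul ⊤ a
  rw [top_inf_eq, hk a ha, Subgroup.card_top] at h2
  rw [one_mul, h2, mul_comm, ← Set.ncard_coe_finset]
  congr 2
  ext y
  simp only [Subgroup.mem_top, true_and, Set.mem_ofPred_eq, Finset.coe_filter, Set.mem_toFinset,
    ConjClasses.mk_eq_mk_iff_isConj]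
  exact ⟨by rintro ⟨c, rfl⟩; exact ⟨hX a ha c, (isConj_iff.2 ⟨c, rfl⟩).symm⟩,
    fun h => isConj_iff.1 h.2.symm⟩

theorem card_centralizer_conj {G : Type*} [Group G] (k g : G) :
    Nat.card (Subgroup.centralizer ({k⁻¹ * g * k} : Set G)) =
      Nat.card (Subgroup.centralizer ({g} : Set G)) := by
  simpa using card_tor_conj k⁻¹ g

namespace Sys

variable {K : Type*} [Field K] {m : ℕ} {G : Type*} [Group G] (R : Sys K m G)

local notation "q" => 3 ^ (2 * m + 1)

include R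

theorem exists_trace_eq (hm : 1 ≤ m) {c : K} (hc : c ≠ 0) :
    ∃ p d : K, p ≠ 0 ∧ (p ^ 2 + p * R.σ p + d ^ 2 = c ∨ p ^ 2 - p * R.σ p - d ^ 2 = c) := by
  classical
  have := R.finiteK
  have := Fintype.ofFinite K
  by_contra! h
  have h3 := R.three_eq_zero
  have hA : ∀ p : K, p ≠ 0 → ¬ IsSquare (c - p ^ 2 - p * R.σ p) := by
    rintro p hp ⟨d, hd⟩
    exact (h p d hp).1 (by linear_combination -hd)
  have hB : ∀ p : K, p ≠ 0 → ¬ IsSquare (-(c - p ^ 2) - p * R.σ p) := by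
    rintro p hp ⟨d, hd⟩
    exact (h p d hp).2 (by linear_combination hd)
  have h1 := four_mul_card_le (K := K) (by rw [ringChar.eq K 3 (C := R.charP)]; norm_num)
  have h2 := Finset.card_le_mul_card_image_of_maps_to (s := Finset.univ.erase (0 : K))
    (t := Finset.univ.filter fun x : K => ¬ IsSquare x ∧ ¬ IsSquare (1 - x))
    (f := fun z => (c * z - R.σ z) / z ^ 2 - 1) (fun z hz => by
      have hz0 := (Finset.mem_erase.1 hz).1
      obtain ⟨l, hl⟩ := R.exists_mul_σ hz0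
      have hs : ∀ {a b : K}, IsSquare a → a * (l * R.σ l) = b → IsSquare b :=
        fun h e => e ▸ h.mul (R.isSquare_mul_σ l)
      have e : R.σ (l * R.σ l) = (l : K) ^ 2 * (l * R.σ l) := by rw [map_mul, R.σσ]; ring
      rw [Finset.mem_filter]
      rcases hl with hl | hl
      · rw [hl] at e
        refine ⟨Finset.mem_univ _, fun h4 => hA l l.ne_zero (hs h4 ?_),
          fun h4 => hB l l.ne_zero (hs h4 ?_)⟩
        · rw [hl, e]; field_simp
        · rw [hl, e]; field_simp; linear_combination z * h3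
      · rw [hl, map_neg, mul_neg, neg_inj] at e
        refine ⟨Finset.mem_univ _, fun h4 => hB l l.ne_zero (hs h4 ?_),
          fun h4 => hA l l.ne_zero (hs h4 ?_)⟩
        · rw [hl, e]; field_simp; ring
        · rw [hl, e]; field_simp; linear_combination -z * h3) 3 (fun b _ => by
      set k := b + 1 with hk
      open Polynomial in
      set P : K[X] := X ^ 2 - (C c - C k * X) * (C (R.σ c) - C (R.σ k) * X * (C c - C k * X))
        with hP
      have hP0 : P ≠ 0 := fun e => by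
        have := congrArg (Polynomial.eval 0) e
        simp [hP, hc] at this
      have hd : P.natDegree ≤ 3 := by rw [hP]; compute_degree
      refine le_trans ?_ ((Polynomial.card_roots' P).trans hd)
      refine le_trans (Finset.card_le_card fun z hz => ?_) (Multiset.toFinset_card_le _)
      rw [Finset.mem_filter, Finset.mem_erase] at hz
      have hz0 := hz.1.1
      have e1 : R.σ z = z * (c - k * z) := by
        have := hz.2
        field_simp at this
        linear_combination -this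
      have e2 := congrArg R.σ e1
      rw [R.σσ, map_mul, map_sub, map_mul, e1] at e2
      rw [Multiset.mem_toFinset, Polynomial.mem_roots hP0, Polynomial.IsRoot.def]
      simp only [hP, Polynomial.eval_sub, Polynomial.eval_mul, Polynomial.eval_pow,
        Polynomial.eval_X, Polynomial.eval_C]
      exact mul_left_cancel₀ hz0 (by linear_combination e2))
  rw [Finset.card_erase_of_mem (Finset.mem_univ _), Finset.card_univ] at h2
  have h4 := le_q m hm
  rw [← R.card, Nat.card_eq_fintype_card] at h4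
  omega

theorem dvd_eighteen {g : G} (h : 3 ∣ orderOf g) :
    orderOf g = 3 ∨ orderOf g = 9 ∨ orderOf g = 6 := by
  rcases R.cases_order g with h1 | h1 | h1 | h1 | h1 | h1
  · have h2 := (Nat.dvd_prime_pow Nat.prime_three (m := 2)).1 h1.2
    obtain ⟨k, hk, e⟩ := h2
    interval_cases k <;> simp_all
  · omega
  · exact .inr (.inr h1.2)
  · exact absurd (h.trans h1.2.1) (not_three_dvd_q_sub_one m)
  · exact absurd ((h.trans h1.2.1).trans (half_dvd m)) (not_three_dvd_add m)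
  · exact absurd (Nat.eq_one_of_dvd_coprimes (coprime_M_three m) (h.trans h1.2) dvd_rfl)
      (by norm_num)

theorem card_centralizer_XH {g : G} (h : g ∈ cl R.XH) :
    Nat.card (Subgroup.centralizer ({g} : Set G)) = q - 1 := by
  obtain ⟨k, ⟨l, e⟩, h2⟩ := h
  rw [← card_centralizer_conj k, ← e, R.centralizer_h (R.h_mul_self_ne_one.1 (e ▸ h2)), R.card_H]

theorem card_centralizer_XW {g : G} (h : g ∈ cl R.XW) :
    Nat.card (Subgroup.centralizer ({g} : Set G)) = q + 1 := by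
  obtain ⟨k, h1, h2⟩ := h
  rw [← card_centralizer_conj k, R.centralizer_of_mem_W h1 h2, R.card_W]

theorem card_centralizer_reg (hρ : HasRep K G) (hm : 1 ≤ m) {x : G} (h2 : 2 < orderOf x)
    (h3 : ¬ 3 ∣ orderOf x) :
    Nat.card (Subgroup.centralizer ({x} : Set G)) ≤ q + 3 ^ (m + 1) + 1 ∧
      ¬ 3 ∣ Nat.card (Subgroup.centralizer ({x} : Set G)) := by
  have : 0 < 3 ^ m := by positivity
  have : 0 < 3 ^ (2 * m) := by positivity
  rcases R.cases_order x with h1 | h1 | h1 | h1 | h1 | h1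
  · have := eq_one_of_dvd_nine h1.2 h3
    omega
  · omega
  · omega
  · rw [R.card_centralizer_XH h1.1]
    exact ⟨by omega, not_three_dvd_q_sub_one m⟩
  · rw [R.card_centralizer_XW h1.1]
    exact ⟨by omega, not_three_dvd_add m⟩
  · refine ⟨?_, fun h => absurd (Nat.eq_one_of_dvd_coprimes (coprime_M_three m)
      (h.trans h1.card_tor_dvd) dvd_rfl) (by norm_num)⟩
    rcases h1.card_tor hρ hm with h | h <;> rw [h] <;> omega

theorem ncard_cube : {s : K | s ^ 3 = s}.ncard ≤ 3 := by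
  refine (Set.ncard_le_ncard (t := {0, 1, -1}) (fun s hs => ?_)).trans
    ((Set.ncard_insert_le _ _).trans (Nat.succ_le_succ ((Set.ncard_insert_le _ _).trans
      (by simp))))
  have h : s ^ 3 = s := hs
  have : s * ((s - 1) * (s + 1)) = 0 := by linear_combination h
  simp only [mul_eq_zero, sub_eq_zero, add_eq_zero_iff_eq_neg] at this
  exact this

theorem card_centralizer_nine {g : G} (h : orderOf g = 9) :
    Nat.card (Subgroup.centralizer ({g} : Set G)) ≤ 3 * q := by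
  have := R.finiteK
  obtain ⟨k, t, u, v, e⟩ := R.exists_conj_mem_U (g := g) (k := 2) (by
    rw [show 3 ^ 2 = orderOf g from h.symm, pow_orderOf_eq_one])
  have ht : t ≠ 0 := fun h0 => by
    have h1 := orderOf_dvd_of_pow_eq_one (R.x_pow_three_eq_one_iff (u := u) (v := v).2 h0)
    rw [← e, orderOf_conj', h] at h1
    exact absurd h1 (by decide)
  rw [← card_centralizer_conj k, e]
  have h1 : (Subgroup.centralizer ({R.x t u v} : Set G) : Set G) ⊆
      (fun a : K × K => R.x (a.1 * t) (a.1 * u + 2 * a.1 * t * R.σ t * (1 - a.1)) a.2) ''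
        ({s : K | s ^ 3 = s} ×ˢ Set.univ) := fun c hc => by
    have h2 : c * R.x t u v = R.x t u v * c := Subgroup.mem_centralizer_singleton_iff.1 hc
    obtain ⟨s, p, r, l, rfl⟩ := R.mem_B_of_commute (R.x_mem_U t u v)
      (fun e => ht (R.x_eq_one_iff.1 e).1) h2
    obtain ⟨p', r', h3⟩ := R.xh_conj s p r l t u v
    rw [h2, mul_inv_cancel_right, R.x_inj] at h3
    obtain rfl : l = 1 := Units.ext (mul_right_cancel₀ ht (by simpa using h3.1.symm))
    rw [map_one, mul_one] at h2 ⊢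
    rw [R.x_mul, R.x_mul, R.x_inj] at h2
    obtain ⟨a, rfl⟩ : ∃ a, s = a * t := ⟨s / t, (div_mul_cancel₀ s ht).symm⟩
    have hσ := R.σ_ne_zero ht
    have h4 : R.σ a = a := mul_right_cancel₀ (mul_ne_zero ht hσ) (by
      have := h2.2.1
      rw [map_mul] at this
      linear_combination this)
    have h5 := R.cube_eq_of_σ_eq h4
    refine ⟨(a, r), ⟨h5, trivial⟩, R.x_congr rfl ?_ rfl⟩
    have h6 := h2.2.2
    rw [map_mul, h4] at h6
    exact mul_left_cancel₀ ht (by linear_combination h6)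
  refine (Set.ncard_le_ncard h1).trans ((Set.ncard_image_le).trans ?_)
  rw [Set.ncard_prod, Set.ncard_univ, R.card]
  exact Nat.mul_le_mul_right _ R.ncard_cube

theorem card_centralizer_six {g : G} (h : orderOf g = 6) :
    Nat.card (Subgroup.centralizer ({g} : Set G)) ≤ 3 * q := by
  have := R.finiteK
  obtain ⟨k, u, hu, e⟩ := R.mem_cl_X6 h
  rw [← card_centralizer_conj k, e]
  have hc : Commute (R.x 0 u 0) R.a := (R.a_comm_x_iff.2 ⟨rfl, rfl⟩).symm
  have h3 : (R.x 0 u 0 * R.a) ^ 3 = R.a := by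
    rw [hc.mul_pow, R.x_pow_three_eq_one_iff.2 rfl, one_mul, pow_three, R.a_mul_a, mul_one]
  have h1 : (Subgroup.centralizer ({R.x 0 u 0 * R.a} : Set G) : Set G) ⊆
      (fun a : Kˣ × K => R.x 0 a.2 0 * R.h a.1) '' ({1, -1} ×ˢ Set.univ) := fun c hc' => by
    have h2 : Commute c (R.x 0 u 0 * R.a) := Subgroup.mem_centralizer_singleton_iff.1 hc'
    have h4 : Commute c R.a := h3 ▸ h2.pow_right 3
    have h5 : Commute c (R.x 0 u 0) := by simpa using h2.mul_right h4.inv_right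
    obtain ⟨p, l, rfl⟩ := R.mem_B_inf_Ca.1 ⟨R.mem_B_of_commute (R.x_mem_U 0 u 0)
      (fun e => hu (R.x_eq_one_iff.1 e).2.1) h5, R.mem_Ca'.2 h4⟩
    have h6 := h5.eq
    rw [mul_assoc, R.h_mul_x, ← mul_assoc, ← mul_assoc, R.x_mul, R.x_mul, mul_left_inj,
      R.x_inj] at h6
    have h7 := R.sq_eq_one_of_mul_σ (l := l) (mul_right_cancel₀ hu (by
      have := h6.2.1
      simp only [zero_mul] at this
      linear_combination this))
    exact ⟨(l, p), ⟨unit_sq_eq_one.1 h7, trivial⟩, rfl⟩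
  refine (Set.ncard_le_ncard h1).trans ((Set.ncard_image_le).trans ?_)
  rw [Set.ncard_prod, Set.ncard_univ, R.card]
  exact Nat.mul_le_mul_right _ ((Set.ncard_insert_le _ _).trans (by simp))

theorem ncard_classes_le (hρ : HasRep K G) (hm : 1 ≤ m) :
    (ConjClasses.mk '' {g : G | ¬ 3 ∣ orderOf g}).ncard ≤ q := by
  have := R.finiteG
  obtain ⟨x, y, hx, hy, cx, cy, -⟩ := R.exists_tori hρ hm
  have hG : 0 < Nat.card G := Nat.card_pos
  have hT : ∀ {x : G}, R.Pi x →
      6 * (ConjClasses.mk '' Chev.conjInto (tor x)).ncard + 1 = Nat.card (tor x) := fun {x} hx => by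
    have h1 := ncard_classes_mul (X := Chev.conjInto (tor x)) (k := Nat.card (tor x))
      (by rintro g ⟨h1, k, h2⟩ c; exact ⟨conj_ne_one h1, c * k, by simpa [mul_assoc] using h2⟩)
      fun g hg => hx.card_tor_of_conjInto hρ hg
    obtain ⟨n, -, h2, h3⟩ := hx.ncard_conjInto hρ
    obtain rfl : 6 = n := Nat.eq_of_mul_eq_mul_right Nat.card_pos
      ((hx.card_normalizer hρ hm).symm.trans h2)
    exact Nat.eq_of_mul_eq_mul_right hG (by linear_combination 6 * h1 + h3)
  have hH := ncard_classes_mul (X := {g : G | orderOf g ∣ q - 1 ∧ ¬ orderOf g ∣ 2}) (k := q - 1)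
    (fun g hg c => by simpa only [Set.mem_ofPred_eq, orderOf_conj] using hg)
    fun g hg => R.card_centralizer_XH (R.mem_cl_XH hg.1 hg.2)
  have hH' := R.ncard_order_H (fun d => d ∣ q - 1 ∧ ¬ d ∣ 2) fun _ h => h
  rw [R.ncard_XH] at hH'
  have hH2 : 2 * (ConjClasses.mk '' {g : G | orderOf g ∣ q - 1 ∧ ¬ orderOf g ∣ 2}).ncard = q - 3 :=
    Nat.eq_of_mul_eq_mul_right hG (by
      rw [mul_assoc, hH, mul_left_comm, hH', R.card_G]; ring)
  have hW := ncard_classes_mul (X := {g : G | orderOf g ∣ (q + 1) / 2 ∧ ¬ orderOf g ∣ 2})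
    (k := q + 1) (fun g hg c => by simpa only [Set.mem_ofPred_eq, orderOf_conj] using hg)
    fun g hg => R.card_centralizer_XW (R.mem_cl_XW hg.1 hg.2)
  have hW' := R.ncard_order_W (fun d => d ∣ (q + 1) / 2 ∧ ¬ d ∣ 2) fun _ h => h
  rw [R.ncard_XW] at hW'
  have hW2 : 6 * (ConjClasses.mk '' {g : G | orderOf g ∣ (q + 1) / 2 ∧ ¬ orderOf g ∣ 2}).ncard =
      q - 3 := Nat.eq_of_mul_eq_mul_right hG (by
    rw [mul_assoc, hW, mul_left_comm, hW', R.card_G']; ring)
  have hsub : ConjClasses.mk '' {g : G | ¬ 3 ∣ orderOf g} ⊆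
      {ConjClasses.mk 1, ConjClasses.mk R.a} ∪
        (ConjClasses.mk '' {g : G | orderOf g ∣ q - 1 ∧ ¬ orderOf g ∣ 2} ∪
        (ConjClasses.mk '' {g : G | orderOf g ∣ (q + 1) / 2 ∧ ¬ orderOf g ∣ 2} ∪
        (ConjClasses.mk '' Chev.conjInto (tor x) ∪ ConjClasses.mk '' Chev.conjInto (tor y)))) := by
    rintro _ ⟨g, hg, rfl⟩
    rcases R.cases_order g with h1 | h1 | h1 | h1 | h1 | h1
    · exact .inl (.inl (by rw [orderOf_eq_one_iff.1 (eq_one_of_dvd_nine h1.2 hg)]))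
    · obtain ⟨k, hk⟩ := R.exists_conj_eq_a (b := g) (by rintro rfl; simp at h1)
        (by rw [← sq, ← h1, pow_orderOf_eq_one])
      exact .inl (.inr (ConjClasses.mk_eq_mk_iff_isConj.2 (isConj_iff.2 ⟨k, hk⟩)))
    · exact absurd (h1.2 ▸ (by decide : 3 ∣ 6)) hg
    · exact .inr (.inl ⟨g, h1.2, rfl⟩)
    · exact .inr (.inr (.inl ⟨g, h1.2, rfl⟩))
    · have h7 := h1.seven_le
      rcases h1.card_tor hρ hm with h | h
      · exact .inr (.inr (.inr (.inl ⟨g, hx.mem_conjInto_of_not_coprime hρ h1 (by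
          rw [cx, ← h, Nat.coprime_self]; omega), rfl⟩)))
      · exact .inr (.inr (.inr (.inr ⟨g, hy.mem_conjInto_of_not_coprime hρ h1 (by
          rw [cy, ← h, Nat.coprime_self]; omega), rfl⟩)))
  have h1 := (Set.ncard_le_ncard hsub).trans ((Set.ncard_union_le _ _).trans (Nat.add_le_add
    ((Set.ncard_insert_le _ _).trans (le_of_eq (by rw [Set.ncard_singleton])))
    ((Set.ncard_union_le _ _).trans (Nat.add_le_add_left ((Set.ncard_union_le _ _).trans
      (Nat.add_le_add_left (Set.ncard_union_le _ _) _)) _))))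
  have h2 := hT hx
  have h3 := hT hy
  have h4 := r_le_q m
  have h5 := le_q m hm
  rw [cx] at h2
  rw [cy] at h3
  generalize 3 ^ (m + 1) = r at *
  generalize q = Q at *
  omega

theorem nine_dvd_q (hm : 1 ≤ m) : 9 ∣ q := pow_dvd_pow 3 (show 2 ≤ 2 * m + 1 by omega)

theorem orderOf_pow_q_dvd (hm : 1 ≤ m) {g : G} (h : 3 ∣ orderOf g) : orderOf (g ^ q) ∣ 2 := by
  refine orderOf_dvd_of_pow_eq_one ?_
  rw [← pow_mul, ← orderOf_dvd_iff_pow_eq_one]
  refine Dvd.dvd.trans ?_ (Nat.mul_dvd_mul_right (R.nine_dvd_q hm) 2)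
  rcases R.dvd_eighteen h with h | h | h <;> rw [h] <;> decide

theorem not_three_dvd_pow_q (hm : 1 ≤ m) (g : G) : ¬ 3 ∣ orderOf (g ^ q) := fun h =>
  absurd (h.trans (R.orderOf_pow_q_dvd hm (h.trans (orderOf_pow_dvd _)))) (by decide)

theorem trace_pow_q (ρ : G →* Matrix (Fin 7) (Fin 7) K) (g : G) :
    (ρ (g ^ q)).trace = (ρ g).trace := by
  have := R.finiteK
  have := Fintype.ofFinite K
  rw [map_pow, ← R.card, Nat.card_eq_fintype_card, FiniteField.trace_pow_card, FiniteField.pow_card]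

omit R in
theorem trace_of_isConj (ρ : G →* Matrix (Fin 7) (Fin 7) K) {g g' : G} (h : IsConj g g') :
    (ρ g).trace = (ρ g').trace := by
  obtain ⟨k, rfl⟩ := isConj_iff.1 h
  rw [map_mul, Matrix.trace_mul_comm, ← map_mul, inv_mul_cancel_left]

theorem exists_sq_or (c : K) : ∃ d : K, d ^ 2 = c ∨ -d ^ 2 = c := by
  rcases eq_or_ne c 0 with rfl | hc
  · exact ⟨0, by simp⟩
  obtain ⟨l, hl⟩ := R.exists_mul_σ hc
  obtain ⟨d, hd⟩ := R.isSquare_mul_σ l
  exact ⟨d, hl.imp (fun h => by rw [← h, hd, sq]) fun h => by rw [sq, ← hd, h, neg_neg]⟩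

variable {R} {ρ : G →* Matrix (Fin 7) (Fin 7) K} {θ : K → K} (hθ : ∀ t, R.σ (θ t) = t)
  (h₁ : ∀ u v, (ρ (R.n * R.x 0 u v)).trace = -1 + θ u ^ 2 + θ u * u + θ v ^ 2)
  (h₂ : ∀ u v, (ρ (R.n * R.a * R.x 0 u v)).trace = -1 + θ u ^ 2 - θ u * u - θ v ^ 2)

include hθ in
theorem θ_σ (t : K) : θ (R.σ t) = t := R.σ.injective (hθ _)

include hθ h₁ h₂

theorem exists_of_trace {p d c : K}
    (h : p ^ 2 + p * R.σ p + d ^ 2 = c + 1 ∨ p ^ 2 - p * R.σ p - d ^ 2 = c + 1) :
    ∃ s : G, s * s = 1 ∧ (ρ (s * R.x 0 (R.σ p) (R.σ d))).trace = c := by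
  rcases h with h | h
  · exact ⟨R.n, R.n_mul_n, by rw [h₁, θ_σ hθ, θ_σ hθ]; linear_combination h⟩
  · exact ⟨R.n * R.a, R.mul_self_of_mem_V (mul_mem R.n_mem_V R.a_mem_V), by
      rw [h₂, θ_σ hθ, θ_σ hθ]; linear_combination h⟩

theorem isConj_of_trace (hρ : HasRep K G) (hm : 1 ≤ m) {x y : G} (hx : ¬ 3 ∣ orderOf x)
    (hy : ¬ 3 ∣ orderOf y) (h : (ρ x).trace = (ρ y).trace) : IsConj x y := by
  have := R.finiteG
  have := R.finiteK
  let τ : ConjClasses G → K := Quotient.lift (fun g => (ρ g).trace) fun _ _ => trace_of_isConj ρ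
  have h1 : τ '' (ConjClasses.mk '' {g : G | ¬ 3 ∣ orderOf g}) = Set.univ :=
    Set.eq_univ_of_forall fun c => by
      obtain ⟨d, hd⟩ := R.exists_sq_or (c + 1)
      obtain ⟨s, -, hs⟩ := exists_of_trace hθ h₁ h₂ (p := 0) (d := d) (c := c) (by simpa using hd)
      exact ⟨_, ⟨_, R.not_three_dvd_pow_q hm _, rfl⟩, (R.trace_pow_q ρ _).trans hs⟩
  have h2 := Set.injOn_of_ncard_image_eq (f := τ) (le_antisymm
    (Set.ncard_image_le (Set.toFinite (ConjClasses.mk '' {g : G | ¬ 3 ∣ orderOf g}))) (by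
    rw [h1, Set.ncard_univ, R.card]; exact R.ncard_classes_le hρ hm)) (Set.toFinite _)
  exact ConjClasses.mk_eq_mk_iff_isConj.1 (h2 ⟨x, hx, rfl⟩ ⟨y, hy, rfl⟩ h)

theorem isConj_of_trace' (hρ : HasRep K G) (hm : 1 ≤ m) {x y : G} (h2 : 2 < orderOf x)
    (hx : ¬ 3 ∣ orderOf x) (h : (ρ x).trace = (ρ y).trace) : IsConj x y := by
  refine isConj_of_trace hθ h₁ h₂ hρ hm hx (fun hy => ?_) h
  obtain ⟨k, hk⟩ := isConj_iff.1 (isConj_of_trace hθ h₁ h₂ hρ hm hx (R.not_three_dvd_pow_q hm y)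
    (h.trans (R.trace_pow_q ρ y).symm))
  have := R.orderOf_pow_q_dvd hm hy
  rw [← hk, orderOf_conj] at this
  exact absurd (Nat.le_of_dvd two_pos this) h2.not_ge

theorem exists_involution (hρ : HasRep K G) (hm : 1 ≤ m) {x : G} (h2 : 2 < orderOf x)
    (hx : ¬ 3 ∣ orderOf x) {u v : K} (h : R.x 0 u v ≠ 1) :
    ∃ s : G, s * s = 1 ∧ IsConj x (s * R.x 0 u v) := by
  have hc : (ρ x).trace + 1 ≠ 0 := fun e => by
    have h3 := h₁ 0 0
    rw [R.x_zero, mul_one, ← map_zero R.σ, θ_σ hθ] at h3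
    obtain ⟨k, hk⟩ := isConj_iff.1 (isConj_of_trace' hθ h₁ h₂ hρ hm h2 hx (y := R.n) (by
      rw [h3, map_zero]; linear_combination e))
    have := orderOf_dvd_of_pow_eq_one ((sq R.n).trans R.n_mul_n)
    rw [← hk, orderOf_conj] at this
    exact absurd (Nat.le_of_dvd two_pos this) h2.not_ge
  have key : ∀ p d : K, (p ^ 2 + p * R.σ p + d ^ 2 = (ρ x).trace + 1 ∨
      p ^ 2 - p * R.σ p - d ^ 2 = (ρ x).trace + 1) → ∀ k : G,
      k * R.x 0 u v * k⁻¹ = R.x 0 (R.σ p) (R.σ d) →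
      ∃ s : G, s * s = 1 ∧ IsConj x (s * R.x 0 u v) := fun p d hpd k hk => by
    obtain ⟨s, hs, e⟩ := exists_of_trace hθ h₁ h₂ hpd
    refine ⟨k⁻¹ * s * k, conj_mul_self' hs, (isConj_of_trace' hθ h₁ h₂ hρ hm h2 hx e.symm).trans
      (isConj_iff.2 ⟨k⁻¹, ?_⟩)⟩
    rw [← hk]; group
  rcases eq_or_ne u 0 with rfl | hu
  · have hv : v ≠ 0 := by rintro rfl; exact h R.x_zero
    obtain ⟨d, hd⟩ := R.exists_sq_or ((ρ x).trace + 1)
    have hd0 : d ≠ 0 := by rintro rfl; simp [hc.symm] at hd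
    obtain ⟨l, hl⟩ := R.exists_sq_mul_σ (div_ne_zero (R.σ_ne_zero hd0) hv)
    refine key 0 d (by simpa using hd) (R.h l) ?_
    rw [R.h_conj, hl]
    simp [hv]
  · obtain ⟨p, d, hp, hd⟩ := R.exists_trace_eq hm hc
    obtain ⟨l, hl⟩ := R.exists_mul_σ (div_ne_zero (R.σ_ne_zero hp) hu)
    have key' : ∀ p : K, p ≠ 0 → (p ^ 2 + p * R.σ p + d ^ 2 = (ρ x).trace + 1 ∨
        p ^ 2 - p * R.σ p - d ^ 2 = (ρ x).trace + 1) → l * R.σ l = R.σ p / u →
        ∃ s : G, s * s = 1 ∧ IsConj x (s * R.x 0 u v) := fun p hp hd hl => by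
      refine key p d hd (R.x ((R.σ d - (l : K) ^ 2 * R.σ l * v) / R.σ p) 0 0 * R.h l) ?_
      have := R.σ_ne_zero hp
      rw [show ∀ a b c : G, a * b * c * (a * b)⁻¹ = a * (b * c * b⁻¹) * a⁻¹ from fun _ _ _ => by
        group, R.h_conj, R.x_conj, hl]
      refine R.x_congr (by simp) (by simp [hu]) ?_
      simp only [mul_zero, map_zero, zero_mul, sub_zero, add_zero, ne_eq, OfNat.ofNat_ne_zero,
        not_false_eq_true, zero_pow]
      field_simp
      ring
    rcases hl with hl | hl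
    · exact key' p hp hd hl
    · exact key' (-p) (neg_ne_zero.2 hp) (by simpa using hd) (by rw [hl, map_neg, neg_div])

theorem exists_mul_of_three (hρ : HasRep K G) (hm : 1 ≤ m) {x g : G} (h2 : 2 < orderOf x)
    (hx : ¬ 3 ∣ orderOf x) (hg : orderOf g = 3) :
    ∃ u v : G, g = u * x * u⁻¹ * (v * x * v⁻¹) := by
  have h3 : g ^ 3 = 1 := hg ▸ pow_orderOf_eq_one g
  obtain ⟨k, t, u, v, e⟩ := R.exists_conj_mem_U (g := g⁻¹) (k := 1) (by simp [h3])
  have h4 : orderOf (R.x t u v) = 3 := by rw [← e, orderOf_conj', orderOf_inv, hg]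
  have h5 : R.x t u v ≠ 1 := fun e => by simp [e] at h4
  obtain rfl := (R.orderOf_x h5).1 h4
  obtain ⟨s, hs, h6⟩ := exists_involution hθ h₁ h₂ hρ hm h2 hx h5
  obtain ⟨c, hc⟩ := isConj_iff.1 h6
  refine ⟨k * s⁻¹ * c, k * c, ?_⟩
  have h7 : g = g⁻¹ * g⁻¹ := by
    rw [eq_mul_inv_iff_mul_eq, eq_inv_iff_mul_eq_one, ← h3, pow_three']
  calc g = k * (R.x 0 u v * (s * s) * R.x 0 u v) * k⁻¹ := by
        rw [hs, ← e]
        exact h7.trans (by group)
    _ = k * s⁻¹ * (c * x * c⁻¹) * s * (c * x * c⁻¹) * k⁻¹ := by rw [hc]; group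
    _ = _ := by group

omit hθ h₁ h₂

variable (R) in
/-- The doubly transitive action. -/
def twoTrans : UL.TwoTrans G (G ⧸ R.B) where
  a := R.inf
  b := R.pt 0 0 0
  t := R.n
  U := R.U
  ne := R.inf_ne_pt 0 0 0
  t_a := R.n_smul_inf
  t_b := R.n_smul_zero
  U_le := R.U_le_B.trans R.stabilizer_inf.ge
  conj_U _ hg _ hu := R.conj_mem_U (R.stabilizer_inf.le hg) hu
  trans c hc := by
    obtain ⟨t, u, v, rfl⟩ := (R.inf_or_pt c).resolve_left hc
    exact ⟨_, R.x_mem_U t u v, R.x_smul_zero t u v⟩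
  third := ⟨R.pt 1 0 0, R.pt_ne_inf _ _ _, fun h => one_ne_zero (R.pt_inj.1 h).1⟩

theorem exists_mul_of_not_dvd [IsSimpleGroup G] {x y g : G}
    (hx : ¬ 3 ∣ Nat.card (Subgroup.centralizer ({x} : Set G)))
    (hy : ¬ 3 ∣ Nat.card (Subgroup.centralizer ({y} : Set G))) (hg : ¬ 3 ∣ orderOf g)
    (h1 : g ≠ 1) : ∃ u v : G, g = u * x * u⁻¹ * (v * y * v⁻¹) := by
  have := R.finiteG
  have : Fact (Nat.Prime 3) := ⟨Nat.prime_three⟩
  have hH : ¬ 3 ∣ Nat.card (stabilizer G R.twoTrans.a ⊓ stabilizer G R.twoTrans.b : Subgroup G) := by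
    have : stabilizer G R.twoTrans.a ⊓ stabilizer G R.twoTrans.b = R.H :=
      Subgroup.ext fun _ => R.mem_H_iff.symm
    rw [this, R.card_H]
    exact not_three_dvd_q_sub_one m
  let T := R.twoTrans.split R.isPGroup_U hH
  refine UL.gow T (UL.irred_of_simple T) (UL.core_of_simple T)
    (eq_top_iff.2 (R.gen.ge.trans (Subgroup.closure_mono ?_))) hx hy hg h1
  have : ∀ t u v, ∃ k, orderOf (R.x t u v) = 3 ^ k := fun t u v =>
    ((Nat.dvd_prime_pow Nat.prime_three (m := 2)).1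
      (R.orderOf_of_mem_U (R.x_mem_U t u v))).imp fun _ h => h.2
  rintro _ (⟨t, u, v, rfl⟩ | ⟨t, u, v, rfl⟩)
  · exact this t u v
  · simpa only [Set.mem_ofPred_eq, orderOf_conj] using this t u v

variable (R) in
theorem le_degree [IsSimpleGroup G] {χ : G → ℂ} (hχ : IsIrrCharacter G χ) (h : χ ≠ fun _ => 1) :
    ((q * (q - 1) + 1 : ℕ) : ℝ) ≤ (χ 1).re := by
  have := R.finiteK
  have h0 := Char.Cfsg.IsIrrCharacter.one_ne_zero hχ
  obtain ⟨k, ρ, hρ, rfl⟩ := hχ
  have h1 := S2343.bound R ρ fun h1 => by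
    rcases (MonoidHom.normal_ker (ρ : _ →* _)).eq_bot_or_eq_top with e | e
    · exact one_ne_zero (R.x_eq_one _ _ _ ((Subgroup.eq_bot_iff_forall _).1 e _ h1)).2.2
    have h2 : ∀ g, ρ g = 1 := fun g => MonoidHom.mem_ker.1 (e ▸ Subgroup.mem_top g)
    have h3 : ¬ 2 ≤ k := fun hk => (KSG.exists_ne_one_of_irreducible ρ hρ hk).elim fun g hg =>
      hg (h2 g)
    have h4 : k ≠ 0 := by simpa using h0
    obtain rfl : k = 1 := by omega
    exact h (funext fun g => by simp [Representation.character, h2])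
  rw [R.card, Module.finrank_fin_fun] at h1
  simpa using (Nat.cast_le (α := ℝ)).2 (Nat.succ_le_of_lt h1)

theorem exists_mul (hT : HasTr R) (hρ : HasRep K G) (hm : 1 ≤ m) [IsSimpleGroup G] {x g : G}
    (h2 : 2 < orderOf x) (hx : ¬ 3 ∣ orderOf x) (h1 : g ≠ 1) :
    ∃ u v : G, g = u * x * u⁻¹ * (v * x * v⁻¹) := by
  have := R.finiteG
  have := Fintype.ofFinite G
  obtain ⟨ρ, θ, hθ, h₁, h₂⟩ := hT
  obtain ⟨h3, h4⟩ := R.card_centralizer_reg hρ hm h2 hx
  by_cases hg : 3 ∣ orderOf g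
  · have key : Nat.card (Subgroup.centralizer ({g} : Set G)) ≤ 3 * q →
        ∃ u v : G, g = u * x * u⁻¹ * (v * x * v⁻¹) := fun h => by
      refine UL.exists_mul_of_degree (fun χ => R.le_degree) h3 (r := 3 ^ (m + 1))
        (by rwa [r_sq]) ?_
      have h5 := r_sq m
      have h6 := r_le_q' m hm
      have h7 := le_q m hm
      generalize 3 ^ (m + 1) = r at *
      generalize q = Q at *
      obtain ⟨Q, rfl⟩ : ∃ Q', Q = Q' + 1 := ⟨Q - 1, by omega⟩
      rw [Nat.add_sub_cancel]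
      nlinarith
    rcases R.dvd_eighteen hg with h | h | h
    · exact exists_mul_of_three hθ h₁ h₂ hρ hm h2 hx h
    · exact key (R.card_centralizer_nine h)
    · exact key (R.card_centralizer_six h)
  · exact exists_mul_of_not_dvd (R := R) h4 h4 hg h1

end Sys

end Cfsg.Agent.Ree
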