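import Mathlib
import Cfsg.Agent.KSG.PSL2
import Cfsg.Agent.S2475

/-!
# Groups `V^k ⋊ (2 × PSL₂(q))` with element orders dividing `9, 6, q - 1, (q + 1) / 2`
-/

set_option autoImplicit false

namespace Cfsg.Agent.Ree.Iso

open KSG.M2 SemidirectProduct

section Aff

variable {N C : Type*} [CommGroup N] [Group C] {φ : C →* MulAut N}

theorem pow_right (x : N ⋊[φ] C) (n : ℕ) : (x ^ n).right = x.right ^ n :=
  map_pow rightHom x n

theorem pow_eq_inl (x : N ⋊[φ] C) {n : ℕ} (h : x.right ^ n = 1) : x ^ n = inl (x ^ n).left := by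
  ext
  · rfl
  · rw [pow_right, h]; rfl

theorem pow_eq_one_of_fpf (x : N ⋊[φ] C) (hf : ∀ w, φ x.right w = w → w = 1) {n : ℕ}
    (h : x.right ^ n = 1) : x ^ n = 1 := by
  have h1 : x * x ^ n = x ^ n * x := (Commute.self_pow x n).eq
  rw [pow_eq_inl x h] at h1 ⊢
  have h2 := congrArg SemidirectProduct.left h1
  simp only [mul_left, left_inl, right_inl, map_one, MulAut.one_apply] at h2
  rw [mul_comm, mul_left_inj] at h2
  rw [hf _ h2, map_one]

theorem pow_mul_eq_one (x : N ⋊[φ] C) {e n : ℕ} (he : ∀ w : N, w ^ e = 1) (h : x.right ^ n = 1) :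
    x ^ (n * e) = 1 := by
  rw [pow_mul, pow_eq_inl x h, ← map_pow, he, map_one]

end Aff

variable {K : Type*} [Field K] (f : K →+* K) (k : ℕ)

local notation "M₂" => Matrix (Fin 2) (Fin 2) K
local notation "SL₂" => Matrix.SpecialLinearGroup (Fin 2) K
local notation "PSL₂" => Matrix.ProjectiveSpecialLinearGroup (Fin 2) K

/-- The twisted action on `k`-tuples of matrices. -/
def act (x : ℤˣ × SL₂) (w : Fin k → M₂) : Fin k → M₂ := fun i =>
  x.1 • ((x.2 : M₂) * w i * ((Matrix.SpecialLinearGroup.map f x.2⁻¹ : SL₂) : M₂))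

theorem act_mul (x y : ℤˣ × SL₂) (w : Fin k → M₂) : act f k (x * y) w = act f k x (act f k y w) := by
  funext i
  simp only [act, Prod.fst_mul, Prod.snd_mul, mul_inv_rev, map_mul,
    Matrix.SpecialLinearGroup.coe_mul, mul_smul, Matrix.mul_smul, Matrix.smul_mul, mul_assoc]

theorem act_one (w : Fin k → M₂) : act f k 1 w = w := by
  funext i
  simp [act]

theorem act_add (x : ℤˣ × SL₂) (w w' : Fin k → M₂) :
    act f k x (w + w') = act f k x w + act f k x w' := by
  funext i
  simp [act, mul_add, add_mul]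

/-- The action as a homomorphism. -/
def φ0 : ℤˣ × SL₂ →* MulAut (Multiplicative (Fin k → M₂)) where
  toFun x :=
    { toFun := fun w => Multiplicative.ofAdd (act f k x w.toAdd)
      invFun := fun w => Multiplicative.ofAdd (act f k x⁻¹ w.toAdd)
      left_inv := fun w => by simp [← act_mul, act_one]
      right_inv := fun w => by simp [← act_mul, act_one]
      map_mul' := fun w w' => by simp [act_add] }
  map_one' := by ext w; simp [act_one]
  map_mul' x y := by ext w; simp [act_mul]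

theorem φ0_apply (x : ℤˣ × SL₂) (w : Multiplicative (Fin k → M₂)) :
    φ0 f k x w = Multiplicative.ofAdd (act f k x w.toAdd) := rfl

theorem surj : Function.Surjective ((MonoidHom.id ℤˣ).prodMap (pr : SL₂ →* PSL₂)) :=
  Function.surjective_id.prodMap pr_surjective

theorem ker_le : ((MonoidHom.id ℤˣ).prodMap (pr : SL₂ →* PSL₂)).ker ≤ (φ0 f k).ker := by
  rintro ⟨e, g⟩ h
  rw [MonoidHom.mem_ker] at h ⊢
  obtain ⟨h1, h2⟩ := Prod.ext_iff.1 h
  change e = 1 at h1
  change pr g = 1 at h2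
  subst h1
  rcases pr_eq_one_iff'.1 h2 with rfl | rfl
  · exact map_one _
  · ext w i : 3
    rw [φ0_apply]
    have : (-1 : M₂).map f = -1 := by
      apply ext2 <;> simp
    simp [act, this]

/-- The action of `{±1} × PSL₂`. -/
noncomputable def φ1 : ℤˣ × PSL₂ →* MulAut (Multiplicative (Fin k → M₂)) :=
  MonoidHom.liftOfSurjective _ surj ⟨φ0 f k, ker_le f k⟩

theorem φ1_pr (e : ℤˣ) (g : SL₂) : φ1 f k (e, pr g) = φ0 f k (e, g) :=
  MonoidHom.liftOfRightInverse_comp_apply _ _ _ ⟨φ0 f k, ker_le f k⟩ (e, g)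

/-- The affine group. -/
abbrev X := Multiplicative (Fin k → M₂) ⋊[φ1 f k] (ℤˣ × PSL₂)

theorem sq_eq (g : SL₂) : (g : M₂) * g = (g : M₂).trace • (g : M₂) - 1 := by
  have hd : (g : M₂) 0 0 * (g : M₂) 1 1 - (g : M₂) 0 1 * (g : M₂) 1 0 = 1 := by
    rw [← Matrix.det_fin_two]; exact g.2
  apply ext2 <;> simp [mul_apply2, Matrix.trace_fin_two]
  · linear_combination -hd
  · ring
  · ring
  · linear_combination -hd

theorem trace_of_fix {e : K} (he : e * e = 1) {g g' : SL₂} {A : M₂} (hA : A ≠ 0)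
    (h : e • ((g : M₂) * A) = A * g') : (g : M₂).trace = e * (g' : M₂).trace := by
  have h1 : (g : M₂) * g * A = A * (g' * g') := by
    rw [← mul_assoc, ← h, Matrix.smul_mul, mul_assoc (g : M₂) A, ← h, Matrix.mul_smul, smul_smul, he,
      one_smul, mul_assoc]
  rw [sq_eq, sq_eq, sub_mul, mul_sub, one_mul, mul_one, sub_left_inj, Matrix.smul_mul,
    Matrix.mul_smul, ← h, smul_smul, ← sub_eq_zero, ← sub_smul, smul_eq_zero] at h1
  rcases h1 with h1 | h1
  · linear_combination h1
  · refine absurd ?_ hA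
    have : ((g⁻¹ : SL₂) : M₂) * ((g : M₂) * A) = A := by
      rw [← mul_assoc, ← Matrix.SpecialLinearGroup.coe_mul, inv_mul_cancel]; simp
    rw [← this, h1, mul_zero]

theorem trace_of_act {e : ℤˣ} {g : SL₂} {w : Multiplicative (Fin k → M₂)} (hw : w ≠ 1)
    (h : φ0 f k (e, g) w = w) : (g : M₂).trace = ((e : ℤ) : K) * f (g : M₂).trace := by
  obtain ⟨i, hi⟩ : ∃ i, w.toAdd i ≠ 0 := by
    by_contra hc
    push Not at hc
    exact hw (Multiplicative.toAdd.injective (funext hc))
  have h1 := congrFun (congrArg Multiplicative.toAdd h) i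
  rw [φ0_apply, toAdd_ofAdd, act] at h1
  have he : ((e : ℤ) : K) * ((e : ℤ) : K) = 1 := by
    rw [← Int.cast_mul, ← Units.val_mul, Int.units_mul_self]; simp
  have h2 := trace_of_fix (g := g) (g' := Matrix.SpecialLinearGroup.map f g) he hi (by
    conv_rhs => rw [← h1]
    rw [Matrix.smul_mul, mul_assoc, ← Matrix.SpecialLinearGroup.coe_mul, ← map_mul,
      inv_mul_cancel, map_one, Matrix.SpecialLinearGroup.coe_one, mul_one, Units.smul_def,
      Int.cast_smul_eq_zsmul])
  refine h2.trans ?_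
  simp [Matrix.trace_fin_two]

variable [Fintype K] [CharP K 3] {m : ℕ} (hK : Fintype.card K = 3 ^ (2 * m + 1))
include hK

omit [Field K] [CharP K 3] in
theorem mod_eight : Fintype.card K % 8 = 3 := by
  rw [hK, pow_succ, pow_mul, Nat.mul_mod, Nat.pow_mod]; norm_num

theorem orderOf_dvd (x : X (frobenius K 3) k) : orderOf x ∣ 6 ∨ orderOf x ∣ 9 ∨
    orderOf x ∣ Fintype.card K - 1 ∨ orderOf x ∣ (Fintype.card K + 1) / 2 := by
  have h8 := mod_eight hK
  have h3 : (3 : K) = 0 := CharP.cast_eq_zero K 3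
  have h2 : (2 : K) ≠ 0 := fun h => one_ne_zero (α := K) (by linear_combination h3 - h)
  have he3 : ∀ w : Multiplicative (Fin k → M₂), w ^ 3 = 1 := fun w => by
    apply Multiplicative.toAdd.injective
    rw [toAdd_pow, toAdd_one, ← Nat.cast_smul_eq_nsmul K]
    simp [h3]
  obtain ⟨w, e, g⟩ := x
  obtain ⟨g, rfl⟩ := pr_surjective g
  simp only [orderOf_dvd_iff_pow_eq_one]
  have hee : ∀ n, Even n → e ^ n = 1 := by
    rintro _ ⟨n, rfl⟩
    rw [← two_mul, pow_mul, Int.units_sq, one_pow]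
  by_cases ht0 : (g : M₂).trace = 0
  · left
    refine pow_mul_eq_one (n := 2) _ he3 (Prod.ext (hee 2 (by decide)) ?_)
    change pr g ^ 2 = 1
    rw [← map_pow, pr_eq_one_iff', sq]
    right
    rw [SL_ext_iff, Matrix.SpecialLinearGroup.coe_mul, sq_eq, ht0]
    simp
  by_cases ht4 : (g : M₂).trace ^ 2 = 4
  · have hg3 := pr_pow_char_eq_one 3 ht4
    rcases Int.units_eq_one_or e with rfl | rfl
    · right; left
      exact pow_mul_eq_one (n := 3) _ he3 (Prod.ext (one_pow _) hg3)
    · left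
      rw [show 6 = 3 * 2 from rfl, pow_mul]
      have hr : ((⟨w, -1, pr g⟩ : X (frobenius K 3) k) ^ 3).right = (-1, pr 1) := by
        rw [pow_right]
        exact Prod.ext (by simp [pow_succ]) (by rw [map_one]; exact hg3)
      refine pow_eq_one_of_fpf _ (fun v hv => ?_) (by rw [hr]; exact Prod.ext (by simp) (by simp))
      rw [hr, φ1_pr] at hv
      by_contra hc
      have := trace_of_act _ _ hc hv
      simp [frobenius_def] at this
      apply h2
      linear_combination 2 * this - 6 * h3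
  have hf : ∀ v, φ1 (frobenius K 3) k (e, pr g) v = v → v = 1 := fun v hv => by
    rw [φ1_pr] at hv
    by_contra hc
    have h := trace_of_act _ _ hc hv
    rw [frobenius_def] at h
    have h' : (1 : K) = ((e : ℤ) : K) * (g : M₂).trace ^ 2 :=
      mul_left_cancel₀ ht0 (by linear_combination h)
    rcases Int.units_eq_one_or e with rfl | rfl
    · apply ht4
      simp at h'
      linear_combination -h' - h3
    · simp at h'
      have : IsSquare (-1 : K) := ⟨(g : M₂).trace, by linear_combination -h'⟩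
      rw [FiniteField.isSquare_neg_one_iff] at this
      omega
  have hg2 := gcd_two_of_two_ne h2
  rcases orderOf_pr_cases 3 g with ⟨h, -⟩ | ⟨-, -, h⟩ | ⟨-, h⟩
  · exact absurd h ht4
  · right; right; left
    rw [hg2, Nat.card_eq_fintype_card] at h
    refine pow_eq_one_of_fpf _ hf (Prod.ext (hee _ (Nat.even_iff.2 (by omega))) ?_)
    exact orderOf_dvd_iff_pow_eq_one.1 (h.trans (Nat.div_dvd_of_dvd (by omega)))
  · right; right; right
    rw [hg2, Nat.card_eq_fintype_card] at h
    exact pow_eq_one_of_fpf _ hf (Prod.ext (hee _ (Nat.even_iff.2 (by omega)))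
      (orderOf_dvd_iff_pow_eq_one.1 h))

omit [Fintype K] hK in
theorem exists_nine : ∃ x : X (frobenius K 3) (k + 1), orderOf x = 9 := by
  have h3 : (3 : K) = 0 := CharP.cast_eq_zero K 3
  have he3 : ∀ w : Multiplicative (Fin (k + 1) → M₂), w ^ 3 = 1 := fun w => by
    apply Multiplicative.toAdd.injective
    rw [toAdd_pow, toAdd_one, ← Nat.cast_smul_eq_nsmul K]
    simp [h3]
  set u : SL₂ := upar (1 : K) (by simp) 1 with hu
  have hu3 : pr u ^ 3 = 1 := pr_pow_char_eq_one 3 (by rw [hu, trace_upar]; norm_num)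
  refine ⟨⟨Multiplicative.ofAdd fun _ => !![0, 0; 1, 0], 1, pr u⟩, ?_⟩
  have : Fact (Nat.Prime 3) := ⟨Nat.prime_three⟩
  refine orderOf_eq_prime_pow (p := 3) (n := 1) (fun h => ?_)
    (pow_mul_eq_one (n := 3) _ he3 (Prod.ext (one_pow _) hu3))
  have h1 := congrFun (congrFun (congrFun
    (congrArg Multiplicative.toAdd (congrArg SemidirectProduct.left h)) 0) 0) 1
  rw [pow_one, pow_succ', pow_succ', pow_one] at h1
  simp only [mul_left, φ1_pr, φ0_apply, toAdd_mul, toAdd_ofAdd] at h1
  have hi : ((Matrix.SpecialLinearGroup.map (frobenius K 3) u⁻¹ : SL₂) : M₂) = !![1, -1; 0, 1] := by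
    apply ext2 <;> simp [hu, Matrix.adjugate_fin_two]
  simp only [Pi.add_apply, act, hi] at h1
  simp [hu] at h1
  apply one_ne_zero (α := K)
  linear_combination h1 + 2 * h3

theorem exists_orderOf (hm : 1 ≤ m) {d : ℕ} (hd : d ∣ 6 ∨ d ∣ 9 ∨
    d ∣ Fintype.card K - 1 ∨ d ∣ (Fintype.card K + 1) / 2) :
    ∃ x : X (frobenius K 3) (k + 1), orderOf x = d := by
  have h8 := mod_eight hK
  have h4 : 4 ≤ Fintype.card K := by
    rw [hK]
    calc 4 ≤ 3 ^ 2 := by norm_num
      _ ≤ _ := Nat.pow_le_pow_right (by norm_num) (by omega)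
  have hS := S2475.result (F := K) 3 h4
  have hg : Nat.gcd 2 (Fintype.card K - 1) = 2 := Nat.gcd_eq_left (by omega)
  rw [hg] at hS
  have key : ∀ n, n ≠ 0 → d ∣ n → (∃ x : X (frobenius K 3) (k + 1), orderOf x = n) →
      ∃ x : X (frobenius K 3) (k + 1), orderOf x = d := by
    rintro _ h0 h ⟨x, rfl⟩
    exact ⟨_, orderOf_pow_orderOf_div h0 h⟩
  have key2 : ∀ n, (n ∣ 3 ∨ n ∣ (Fintype.card K - 1) / 2 ∨ n ∣ (Fintype.card K + 1) / 2) →
      ∃ x : X (frobenius K 3) (k + 1), orderOf x = Nat.lcm 2 n := by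
    intro n hn
    obtain ⟨g, hg⟩ : n ∈ Set.range (orderOf : PSL₂ → ℕ) := by rw [hS]; exact hn
    refine ⟨inr (-1, g), ?_⟩
    rw [orderOf_injective _ inr_injective, Prod.orderOf, hg]
    congr 1
    exact orderOf_eq_prime (by simp) (by simp)
  rcases hd with h | h | h | h
  · exact key 6 (by norm_num) h (key2 3 (.inl dvd_rfl))
  · exact key 9 (by norm_num) h (exists_nine k)
  · refine key _ (by omega) h ?_
    have := key2 _ (.inr (.inl dvd_rfl))
    rwa [Nat.Coprime.lcm_eq_mul, Nat.mul_div_cancel' (by omega)] at this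
    exact Nat.coprime_two_left.2 (Nat.odd_iff.2 (by omega))
  · refine key _ (by omega) h ?_
    have := key2 _ (.inr (.inr dvd_rfl))
    rwa [Nat.lcm_eq_right (by omega)] at this

omit hK in
theorem lt_card : k < Nat.card (X (frobenius K 3) (k + 1)) := by
  have : Finite (X (frobenius K 3) (k + 1)) := Finite.of_equiv _ equivProd.symm
  refine lt_of_lt_of_le ?_ (Nat.card_le_card_of_injective _ inl_injective)
  rw [Nat.card_congr Multiplicative.toAdd, Nat.card_fun, Nat.card_eq_fintype_card (α := Fin _),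
    Fintype.card_fin]
  exact (Nat.lt_succ_self k).trans (Nat.lt_pow_self Finite.one_lt_card)

end Cfsg.Agent.Ree.Iso
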